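import Cfsg.Agent.H71.Wf.Tools
import Cfsg.Agent.H240.BalTwF.Plus
import Cfsg.Agent.H160.TwF3.Row
import Cfsg.Agent.H42.Deg.F4Levi
import Cfsg.Agent.H762.TwFPL

/-!
# The elements of order three of `²F₄(q)` (helper71, task 4034)

* `conj_LO` : every element of order three of `²F₄(q)`, `q ≥ 8`, is conjugate to an element of `LO = ⟨X_1, X_9⟩ ≅ SL₂(q)`;
* `qs_LO` : `LO` is `QS`.
-/

set_option autoImplicit false
set_option linter.unusedSectionVars false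

namespace Cfsg.Agent.H71.Wf.TwF

open Subgroup Cfsg
open Cfsg.Agent.SplitTwo Cfsg.Agent.SplitTwo.ZS
open Cfsg.Agent.H823.GateTwo Cfsg.Agent.H823.NfTwF
open Cfsg.Agent.KFacts.TwF4 Cfsg.Agent.TitsThree.RankTwoZ
open Cfsg.Agent.KFacts.TwF4.SylU

section Main

variable {F : Type*} [Field F] [Finite F] {σ : F →+* F} {G : Type*} [Group G] [Finite G] (S : Full σ G)
  {P : BNPair G} (hPB : P.B = normalizer (J S.XZ 1 8 : Set G)) (hPS : P.S = {S.n1, S.n2})

include hPB in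
theorem B_le (hF : ∃ c : Fˣ, c ≠ 1) (hR : S.R.p = 2) {g : G} (hg : g ∈ P.B) :
    ∃ b ∈ J S.XZ 1 8, ∃ t ∈ S.T, g = b * t := by
  rw [hPB] at hg
  exact norm_U S hF hR fun x => mem_normalizer_iff.1 hg x

include hPB in
theorem par1_le (hF : ∃ c : Fˣ, c ≠ 1) (hR : S.R.p = 2) : P.parabolic {S.n1} ≤ H42.Deg.F4.PP S := by
  refine sup_le ?_ ?_
  · intro g hg
    obtain ⟨b, hb, t, ht, rfl⟩ := B_le S hPB hF hR hg
    exact mul_mem (H42.Deg.F4.J_le_PP S (J_mono le_rfl (by norm_num) hb)) (H42.Deg.F4.T_le_PP S ht)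
  · rw [closure_le, Set.singleton_subset_iff]
    exact H42.Deg.F4.LO_le_PP S S.n1_mem_LO

include hPB in
theorem par2_le (hF : ∃ c : Fˣ, c ≠ 1) (hR : S.R.p = 2) : P.parabolic {S.n2} ≤ S.T ⊔ S.PL := by
  refine sup_le ?_ ?_
  · intro g hg
    obtain ⟨b, hb, t, ht, rfl⟩ := B_le S hPB hF hR hg
    exact mul_mem (mem_sup_right (J_mono (by norm_num) le_rfl hb)) (mem_sup_left ht)
  · rw [closure_le, Set.singleton_subset_iff]
    exact mem_sup_right S.n2_mem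

/-- the torus has exponent `q - 1` -/
theorem T_pow {t : G} (ht : t ∈ S.T) : t ^ (Nat.card F - 1) = 1 := by
  obtain ⟨c, d, rfl⟩ := S.mem_T.1 ht
  have h1 : ∀ c : Fˣ, c ^ (Nat.card F - 1) = 1 := by
    intro c
    rw [← Nat.card_units]
    exact pow_card_eq_one'
  rw [Arc.h_pow, h1, h1, S.h_one]

/-- no elements of order three in `T PL` -/
theorem no_three (hR : S.R.p = 2) {m : ℕ} (hq : Nat.card F = 2 ^ (2 * m + 1)) {a : G} (ha : orderOf a = 3)
    (h : a ∈ S.T ⊔ S.PL) : False := by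
  have hq3 : Nat.card F % 3 = 2 := by
    rw [hq, pow_succ, pow_mul, Nat.mul_mod, Nat.pow_mod]
    norm_num
  obtain ⟨t, ht, y, hy, rfl⟩ := mem_sup_of_norm (A := S.T) (B := S.PL) (fun t ht u hu => S.T_conj_J ht hu) h
  have key : ∀ n : ℕ, ∃ z ∈ S.PL, (t * y) ^ n = t ^ n * z := by
    intro n
    induction n with
    | zero => exact ⟨1, one_mem _, by simp⟩
    | succ n ih =>
      obtain ⟨z, hz, h1⟩ := ih
      refine ⟨(t⁻¹ * z * t) * y, mul_mem ?_ hy, ?_⟩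
      · have := S.T_conj_J (inv_mem ht) hz
        rwa [inv_inv] at this
      · rw [pow_succ, h1, pow_succ]
        group
  obtain ⟨z, hz, h1⟩ := key (Nat.card F - 1)
  rw [T_pow S ht, one_mul] at h1
  have h2 : (t * y) ^ (Nat.card F - 1) = t * y := by
    have h3 : Nat.card F - 1 = 3 * ((Nat.card F - 2) / 3) + 1 := by omega
    rw [h3, pow_succ, pow_mul, ← ha, pow_orderOf_eq_one, one_pow, one_mul]
  rw [h2] at h1
  apply H762.PL.three_not_dvd S hR hq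
  rw [← ha, h1]
  have h4 : orderOf (⟨z, hz⟩ : S.PL) = orderOf z := Subgroup.orderOf_mk z hz
  rw [← h4]
  exact orderOf_dvd_natCard _

/-- the index of `LO` in the parabolic subgroup -/
theorem index_LO (hF : ∃ c : Fˣ, c ≠ 1) (hR : S.R.p = 2) {m : ℕ} (hq : Nat.card F = 2 ^ (2 * m + 1)) :
    ¬ 3 ∣ (S.LO.subgroupOf (H42.Deg.F4.PP S)).index := by
  have hq3 : Nat.card F % 3 = 2 := by
    rw [hq, pow_succ, pow_mul, Nat.mul_mod, Nat.pow_mod]
    norm_num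
  have h1 := Subgroup.card_mul_index (S.LO.subgroupOf (H42.Deg.F4.PP S))
  rw [Nat.card_congr (Subgroup.subgroupOfEquivOfLe (H42.Deg.F4.LO_le_PP S)).toEquiv, H42.Deg.F4.card_PP S hF,
    ← H42.Deg.F4.card_LO S] at h1
  have h2 := Nat.eq_of_mul_eq_mul_left Nat.card_pos h1
  rw [h2]
  intro h3
  rcases (Nat.Prime.dvd_mul Nat.prime_three).1 h3 with h4 | h4
  · rw [Nat.card_units] at h4
    omega
  · have h5 : IsPGroup 2 (J S.XZ 2 8) := Perf.two_J S hR (by norm_num)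
    obtain ⟨k, hk⟩ := IsPGroup.iff_card.mp h5
    rw [hk] at h4
    have := Nat.Prime.dvd_of_dvd_pow Nat.prime_three h4
    omega

include hPB hPS in
/-- **Every element of order three is conjugate to an element of `LO`.** -/
theorem conj_LO (hF : ∃ c : Fˣ, c ≠ 1) (hR : S.R.p = 2) (hirr : P.Irreducible) (h12 : S.n1 ≠ S.n2)
    {m : ℕ} (hq : Nat.card F = 2 ^ (2 * m + 1)) {a : G} (ha : orderOf a = 3) : ∃ g : G, g * a * g⁻¹ ∈ S.LO := by
  have hf3 : Fact (Nat.Prime 3) := ⟨Nat.prime_three⟩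
  have h1S : S.n1 ∈ P.S := by rw [hPS]; exact Set.mem_insert _ _
  have h2S : S.n2 ∈ P.S := by rw [hPS]; exact Set.mem_insert_of_mem _ rfl
  have hxp : (MulAut.conj a : MulAut G) ^ 3 = 1 := by
    rw [← map_pow, ← ha, pow_orderOf_eq_one, map_one]
  obtain ⟨g, hg⟩ := H160.TwF3.Row.fixC S hPB hPS hF hR hirr h12 hxp
  have key : ∀ s ∈ P.S, FixC (MulAut.conj a) g (P.parabolic {s}) → g⁻¹ * a * g ∈ P.parabolic {s} := by
    intro s hs h
    have h1 : g⁻¹ * a * g ∈ normalizer (P.parabolic {s} : Set G) := by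
      rw [mem_normalizer_iff_map_conj_eq]
      refine Subgroup.eq_of_le_of_card_ge ?_ (le_of_eq ?_)
      · rintro _ ⟨y, hy, rfl⟩
        have h2 := h y hy
        have e : g⁻¹ * (MulAut.conj a) (g * y * g⁻¹) * g = (g⁻¹ * a * g) * y * (g⁻¹ * a * g)⁻¹ := by
          rw [MulAut.conj_apply]; group
        rw [e] at h2
        exact h2
      · exact (Subgroup.card_map_of_injective (MulAut.conj (g⁻¹ * a * g)).injective).symm
    rwa [Cfsg.Agent.S0312.result P (Set.singleton_subset_iff.2 hs)] at h1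
  have ho : orderOf (g⁻¹ * a * g) = 3 := by
    have e : g⁻¹ * a * g = MulAut.conj g⁻¹ a := by rw [MulAut.conj_apply, inv_inv]
    rw [e, ← ha]
    exact orderOf_injective (MulAut.conj g⁻¹).toMonoidHom (MulAut.conj g⁻¹).injective a
  rcases hg with h | h
  · have h1 := par1_le S hPB hF hR (key _ h1S h)
    have h2 : orderOf (⟨g⁻¹ * a * g, h1⟩ : H42.Deg.F4.PP S) = 3 := by rw [Subgroup.orderOf_mk, ho]
    obtain ⟨k, hk⟩ := H533.T5.exists_conj_mem_of_index (index_LO S hF hR hq) h2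
    refine ⟨k * g⁻¹, ?_⟩
    have h3 : (k : G) * (g⁻¹ * a * g) * (k : G)⁻¹ ∈ S.LO := Subgroup.mem_subgroupOf.mp hk
    have e : (k : G) * g⁻¹ * a * ((k : G) * g⁻¹)⁻¹ = (k : G) * (g⁻¹ * a * g) * (k : G)⁻¹ := by group
    rw [e]
    exact h3
  · exact (no_three S hR hq ho (par2_le S hPB hF hR (key _ h2S h))).elim

/-- `LO` is `QS` -/
theorem qs_LO (h4 : 4 ≤ Nat.card F) (hF : ∃ c : Fˣ, c ≠ 1) : H533.Wf.QS S.LO := by
  have hs := H240.BalTwF.simple_LO S h4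
  refine H533.Wf.QS.of_simple hs ?_
  rintro ⟨⟨hc⟩⟩
  obtain ⟨c, hc1⟩ := hF
  have h1 := hc ⟨S.h c c, S.h_mem_LO c⟩ ⟨S.o 0 1, mem_sup_left ((Arc.mem_X1 S).2 ⟨1, rfl⟩)⟩
  have h2 : S.h c c * S.o 0 1 = S.o 0 1 * S.h c c := congrArg Subtype.val h1
  have h3 : S.h c c * S.o 0 1 * (S.h c c)⁻¹ = S.o 0 1 := by rw [h2]; group
  have h5 := Perf.fixo S (a := 0) (c := c) (d := c) (by
    show chE σ 0 c c * chE σ 1 c c ≠ 1
    rw [chE_zero, chE_one]
    exact Perf.sq_ne S hc1) (X := S.XZ 1) (fun x hx => (Arc.mem_X1 S).1 hx) _ ((Arc.mem_X1 S).2 ⟨1, rfl⟩) h3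
  exact one_ne_zero (S.o_eq_one h5)

/-- `LO` is a proper subgroup -/
theorem LO_ne_top (hF : ∃ c : Fˣ, c ≠ 1) : S.LO ≠ ⊤ := by
  intro h
  obtain ⟨c, hc⟩ := hF
  have h1 : S.h c c⁻¹ = 1 := H42.Deg.F4.ZJ_inf_LO S ⟨c, rfl⟩ (by rw [h]; exact mem_top _)
  rw [← S.h_one] at h1
  exact hc (S.h_inj _ _ _ _ h1).1

end Main

end Cfsg.Agent.H71.Wf.TwF
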